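import Cfsg.Agent.Lib.Recog.TwoR.Consumers.CitBranch
import Cfsg.Agent.Lib.CNGroups.Basic
import Mathlib.FieldTheory.Finite.Basic

/-!
Extensions of the groups of odd type and of `PSL₃(4)` by CN-groups.
-/

set_option autoImplicit false
set_option linter.unusedSectionVars false
set_option linter.style.haveILetI false

namespace CfsgLib.Recog.CIT.CNStructure

open scoped Matrix

universe u

variable {Y : Type u} [Group Y] [Finite Y]

/-- An element of prime power order fixes a member of an invariant set of order prime to it, and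
fixes a second one in a set of order divisible by it. -/
theorem card_modEq_fixed {s k : ℕ} (hs : s.Prime) {e : Y} (he : orderOf e = s ^ k) (P : Y → Prop)
    (hinv : ∀ t, P t → P (e * t * e⁻¹)) :
    Nat.card {t : Y // P t} ≡ Nat.card {t : Y // P t ∧ Commute e t} [MOD s] := by
  haveI := Fact.mk hs
  have hpow : ∀ n : ℕ, ∀ t, P t → P (e ^ n * t * (e ^ n)⁻¹) := by
    intro n
    induction n with
    | zero => intro t ht; simpa using ht
    | succ n ih =>
      intro t ht
      have := hinv _ (ih t ht)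
      rwa [show e * (e ^ n * t * (e ^ n)⁻¹) * e⁻¹ = e ^ (n + 1) * t * (e ^ (n + 1))⁻¹ by
        rw [pow_succ']; group] at this
  have hall : ∀ g : Subgroup.zpowers e, ∀ t, P t → P ((g : Y) * t * (g : Y)⁻¹) := fun g t ht => by
    obtain ⟨n, hn⟩ := mem_powers_iff_mem_zpowers.2 g.2
    rw [← show e ^ n = (g : Y) from hn]
    exact hpow n t ht
  letI : MulAction (Subgroup.zpowers e) {t : Y // P t} :=
    { smul := fun g t => ⟨(g : Y) * t * (g : Y)⁻¹, hall g t t.2⟩
      one_smul := fun t => Subtype.ext (by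
        show ((1 : Subgroup.zpowers e) : Y) * t * _⁻¹ = t
        simp)
      mul_smul := fun g h t => Subtype.ext (by
        show ((g * h : Subgroup.zpowers e) : Y) * t * _⁻¹ = (g : Y) * ((h : Y) * t * (h : Y)⁻¹) * (g : Y)⁻¹
        rw [Subgroup.coe_mul]; group) }
  have hG : IsPGroup s (Subgroup.zpowers e) := IsPGroup.of_card (n := k) (by rw [Nat.card_zpowers, he])
  refine (hG.card_modEq_card_fixedPoints {t : Y // P t}).trans (congrArg (· % s) (Nat.card_congr
    { toFun := fun t => ⟨t.1.1, t.1.2, mul_inv_eq_iff_eq_mul.1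
        (congrArg Subtype.val (t.2 ⟨e, Subgroup.mem_zpowers e⟩))⟩
      invFun := fun t => ⟨⟨t.1, t.2.1⟩, fun g => Subtype.ext (by
        obtain ⟨n, hn⟩ := mem_powers_iff_mem_zpowers.2 g.2
        show (g : Y) * t.1 * (g : Y)⁻¹ = t.1
        rw [← show e ^ n = (g : Y) from hn, mul_inv_eq_iff_eq_mul]
        exact (t.2.2.pow_left n).eq)⟩
      left_inv := fun t => rfl
      right_inv := fun t => rfl }))

theorem exists_fixed {s k : ℕ} (hs : s.Prime) {e : Y} (he : orderOf e = s ^ k) (P : Y → Prop)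
    (hinv : ∀ t, P t → P (e * t * e⁻¹)) (hnd : ¬ s ∣ Nat.card {t : Y // P t}) :
    ∃ t, P t ∧ Commute e t := by
  by_contra hc
  push Not at hc
  refine hnd (Nat.modEq_zero_iff_dvd.1 ((card_modEq_fixed hs he P hinv).trans ?_))
  haveI : IsEmpty {t : Y // P t ∧ Commute e t} := ⟨fun t => hc t t.2.1 t.2.2⟩
  rw [Nat.card_of_isEmpty]

/-- The two-part of an element. -/
theorem exists_two_part {g : Y} : ∃ m, Odd m ∧ ∃ k, orderOf (g ^ m) = 2 ^ k := by
  obtain ⟨k, m, hm, hg⟩ := Nat.exists_eq_two_pow_mul_odd (orderOf_pos g).ne'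
  exact ⟨m, hm, k, by rw [orderOf_pow' g hm.pos.ne', hg, Nat.gcd_mul_left_left,
    Nat.mul_div_left _ hm.pos]⟩

theorem conj_commute {x e c : Y} {i : ℕ} (hx : e * x * e⁻¹ = x ^ i) (hc : Commute c (x ^ i)) :
    Commute (e⁻¹ * c * e) x := by
  have h1 : e⁻¹ * c * e * x = e⁻¹ * (c * x ^ i) * e := by rw [← hx]; group
  show e⁻¹ * c * e * x = x * (e⁻¹ * c * e)
  rw [h1, hc.eq, ← hx]
  group

/-- If an element of prime power order acts nontrivially on a subgroup of prime order of a normal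
subgroup, the centraliser of that subgroup lies in the normal subgroup. -/
theorem mem_of_commute (hCN : Cfsg.IsCNGroup Y) {E : Subgroup Y} [E.Normal] {x e : Y} {r s k i : ℕ}
    (hr : r.Prime) (hs : s.Prime) (hrs : r ≠ s) (hx : orderOf x = r) (he : orderOf e = s ^ k)
    (heE : e ∈ E) (hi : e * x * e⁻¹ = x ^ i) (hne : ¬ Commute e x) {c : Y} (hc : Commute c x) :
    c ∈ E := by
  haveI := Fact.mk hr
  have hx1 : x ≠ 1 := fun h => by rw [h, orderOf_one] at hx; exact hr.one_lt.ne hx
  set C := Subgroup.centralizer ({x} : Set Y) with hC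
  have hmem : ∀ {a : Y}, a ∈ C ↔ Commute a x := Subgroup.mem_centralizer_singleton_iff
  -- `e` normalises `C`
  have hpow : ∃ j : ℕ, (x ^ i) ^ j = x := by
    refine exists_pow_eq_self_of_coprime (n := i) (x := x) ?_ |>.imp fun j hj => hj
    rw [hx, Nat.coprime_comm, hr.coprime_iff_not_dvd]
    rintro ⟨l, rfl⟩
    rw [pow_mul, ← hx, pow_orderOf_eq_one, one_pow, mul_inv_eq_one, mul_eq_left] at hi
    exact hx1 hi
  have hnorm : ∀ a : Y, Commute a x → Commute (e * a * e⁻¹) x := fun a ha => by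
    obtain ⟨j, hj⟩ := hpow
    have h1 : Commute (e * a * e⁻¹) (x ^ i) := by
      rw [← hi]
      exact (ha.map (MulAut.conj e).toMonoidHom)
    exact hj ▸ h1.pow_right j
  -- fixed points are trivial
  have hfix : ∀ a : Y, Commute a x → Commute e a → a = 1 := fun a ha hea => by
    by_contra ha1
    haveI := hCN a ha1
    refine hne (CNGroups.commute_of_coprime (H := Subgroup.centralizer ({a} : Set Y)) inferInstance
      (Subgroup.mem_centralizer_singleton_iff.2 hea.eq)
      (Subgroup.mem_centralizer_singleton_iff.2 ha.symm.eq) ?_)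
    rw [he, hx]
    exact ((Nat.coprime_primes hs hr).2 hrs.symm).pow_left k
  have hcard : Nat.card C ≡ 1 [MOD s] := by
    have h1 := card_modEq_fixed hs he (fun a => a ∈ C) (fun a ha => hmem.2 (hnorm a (hmem.1 ha)))
    haveI : Unique {t : Y // t ∈ C ∧ Commute e t} :=
      { default := ⟨1, one_mem _, Commute.one_right e⟩
        uniq := fun t => Subtype.ext (hfix t (hmem.1 t.2.1) t.2.2) }
    rwa [Nat.card_unique (α := {t : Y // t ∈ C ∧ Commute e t})] at h1
  have hsC : ¬ s ∣ Nat.card C := fun h => by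
    have := (Nat.modEq_zero_iff_dvd.2 h).symm.trans hcard
    rw [Nat.ModEq, Nat.zero_mod, Nat.mod_eq_of_lt hs.one_lt] at this
    exact zero_ne_one this
  have hT : Nat.card {a : Y // Commute a x ∧ c⁻¹ * a ∈ E} ∣ Nat.card C := by
    rw [show Nat.card {a : Y // Commute a x ∧ c⁻¹ * a ∈ E} = Nat.card ↥(C ⊓ E) from Nat.card_congr
      { toFun := fun a => ⟨c⁻¹ * a, hmem.2 (hc.inv_left.mul_left a.2.1), a.2.2⟩
        invFun := fun b => ⟨c * b, hc.mul_left (hmem.1 b.2.1), by
          rw [inv_mul_cancel_left]; exact b.2.2⟩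
        left_inv := fun a => Subtype.ext (mul_inv_cancel_left _ _)
        right_inv := fun b => Subtype.ext (inv_mul_cancel_left _ _) }]
    exact Subgroup.card_dvd_of_le inf_le_left
  obtain ⟨t, ⟨htx, htE⟩, het⟩ := exists_fixed hs he (fun a => Commute a x ∧ c⁻¹ * a ∈ E) (fun a ha =>
    ⟨hnorm a ha.1, by
      rw [show c⁻¹ * (e * a * e⁻¹) = (c⁻¹ * e * c) * (c⁻¹ * a) * e⁻¹ by group]
      refine mul_mem (mul_mem ?_ ha.2) (inv_mem heE)
      simpa using ‹E.Normal›.conj_mem e heE c⁻¹⟩) (fun h => hsC (h.trans hT))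
  rw [hfix t htx het, mul_one] at htE
  exact inv_mem_iff.1 htE

/-- A real element of odd prime order of a normal subgroup: its centraliser lies inside. -/
theorem mem_of_commute_real (hCN : Cfsg.IsCNGroup Y) {E : Subgroup Y} [E.Normal] {x s : E} {r : ℕ}
    (hr : r.Prime) (hr2 : r ≠ 2) (hx : orderOf x = r) (hs : s * x * s⁻¹ = x⁻¹) {c : Y}
    (hc : Commute c (x : Y)) : c ∈ E := by
  obtain ⟨m, hm, k, hk⟩ := exists_two_part (g := s)
  have hconj : ∀ n : ℕ, s ^ n * x * (s ^ n)⁻¹ = if Even n then x else x⁻¹ := fun n => by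
    induction n with
    | zero => simp
    | succ n ih =>
      rw [pow_succ', show s * s ^ n * x * (s * s ^ n)⁻¹ = s * (s ^ n * x * (s ^ n)⁻¹) * s⁻¹ by group, ih]
      by_cases hn : Even n
      · simp [hn, Nat.even_add_one, hs]
      · simp [hn, Nat.even_add_one]
        rw [← conj_inv, hs, inv_inv]
  have h1 : s ^ m * x * (s ^ m)⁻¹ = x⁻¹ := by
    rw [hconj, if_neg (Nat.not_even_iff_odd.2 hm)]
  have hinv : x⁻¹ = x ^ (r - 1) := by
    refine inv_eq_of_mul_eq_one_right ?_
    rw [← pow_succ', Nat.sub_add_cancel hr.pos, ← hx, pow_orderOf_eq_one]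
  refine mem_of_commute hCN hr Nat.prime_two hr2 (x := (x : Y)) (e := ((s ^ m : E) : Y)) (i := r - 1)
    (by rw [Subgroup.orderOf_coe, hx]) (by rw [Subgroup.orderOf_coe, hk]) (SetLike.coe_mem _) ?_ ?_ hc
  · have h2 := congrArg (Subtype.val : E → Y) (h1.trans hinv)
    simpa using h2
  · intro hcm
    have h2 : x⁻¹ = x := by
      rw [← h1, mul_inv_eq_iff_eq_mul]
      exact Subtype.ext hcm.eq
    have h3 : orderOf x ∣ 2 := orderOf_dvd_of_pow_eq_one (by
      rw [pow_two]; exact inv_eq_iff_mul_eq_one.1 h2)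
    rw [hx] at h3
    exact hr2 ((Nat.prime_dvd_prime_iff_eq hr Nat.prime_two).1 h3)

section
variable {F : Type*} [Field F] [Fintype F]

/-- The companion of an element of order three. -/
def compThree : Matrix.SpecialLinearGroup (Fin 2) F :=
  ⟨!![0, -1; 1, -1], by simp [Matrix.det_fin_two]⟩

theorem exists_companion (h2 : (2 : F) ≠ 0) (h3 : (3 : F) ≠ 0) {A : Matrix.SpecialLinearGroup (Fin 2) F}
    (hA3 : A ^ 3 = 1) (hA1 : A ≠ 1) :
    ∃ P : Matrix.SpecialLinearGroup (Fin 2) F, P * compThree * P⁻¹ = A := by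
  have hdet := A.2
  rw [Matrix.det_fin_two] at hdet
  obtain ⟨a, ha⟩ : ∃ a, A.1 0 0 = a := ⟨_, rfl⟩
  obtain ⟨b, hb⟩ : ∃ b, A.1 0 1 = b := ⟨_, rfl⟩
  obtain ⟨c, hc⟩ : ∃ c, A.1 1 0 = c := ⟨_, rfl⟩
  obtain ⟨d, hd⟩ : ∃ d, A.1 1 1 = d := ⟨_, rfl⟩
  rw [ha, hb, hc, hd] at hdet
  have hcube := congrArg Subtype.val hA3
  rw [pow_succ, pow_two, Matrix.SpecialLinearGroup.coe_mul, Matrix.SpecialLinearGroup.coe_mul,
    Matrix.SpecialLinearGroup.coe_one] at hcube
  have e00 := congrFun (congrFun hcube 0) 0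
  have e01 := congrFun (congrFun hcube 0) 1
  have e10 := congrFun (congrFun hcube 1) 0
  have e11 := congrFun (congrFun hcube 1) 1
  simp [Matrix.mul_apply, Fin.sum_univ_two, ha, hb, hc, hd] at e00 e01 e10 e11
  have f00 : ((a + d) * (a + d) - 1) * a = (a + d) + 1 := by
    linear_combination e00 + (2 * a + d) * hdet
  have f11 : ((a + d) * (a + d) - 1) * d = (a + d) + 1 := by
    linear_combination e11 + (2 * d + a) * hdet
  have f01 : ((a + d) * (a + d) - 1) * b = 0 := by linear_combination e01 + b * hdet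
  have f10 : ((a + d) * (a + d) - 1) * c = 0 := by linear_combination e10 + c * hdet
  have hone : ¬ (b = 0 ∧ c = 0 ∧ a = d ∧ a ^ 3 = 1) := by
    rintro ⟨hb0, hc0, had, h3'⟩
    rw [hb0, hc0, ← had] at hdet
    have ha1 : a = 1 := by linear_combination h3' - a * hdet
    refine hA1 (Subtype.ext ?_)
    rw [Matrix.SpecialLinearGroup.coe_one]
    ext i j
    fin_cases i <;> fin_cases j <;> simp [ha, hb, hc, hd, hb0, hc0, ← had, ha1]
  have htr : a + d = -1 := by
    by_cases hk : (a + d) * (a + d) - 1 = 0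
    · rw [hk, zero_mul] at f00
      linear_combination -f00
    · exfalso
      have hb0 := (mul_eq_zero.1 f01).resolve_left hk
      have hc0 := (mul_eq_zero.1 f10).resolve_left hk
      have had : a = d := mul_left_cancel₀ hk (f00.trans f11.symm)
      refine hone ⟨hb0, hc0, had, ?_⟩
      rw [hb0, hc0] at e00
      linear_combination e00
  obtain ⟨v0, v1, hv⟩ : ∃ v0 v1 : F, v0 * (c * v0 + d * v1) - (a * v0 + b * v1) * v1 = 1 := by
    by_cases hc0 : c = 0
    · have hne : d - a ≠ 0 := fun h => h3 (by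
        subst hc0
        linear_combination -4 * hdet + (a + d - 1) * htr - (d - a) * h)
      exact ⟨(1 + b) / (d - a), 1, by rw [hc0]; field_simp; ring⟩
    · have hodd : Fintype.card F % 2 = 1 := FiniteField.odd_card_of_char_ne_two fun hchar => h2 (by
        haveI := ringChar.of_eq hchar
        exact CharTwo.two_eq_zero)
      obtain ⟨x, y, hxy⟩ := FiniteField.exists_root_sum_quadratic (R := F)
        (f := Polynomial.X ^ 2) (g := Polynomial.C 3 * Polynomial.X ^ 2 + Polynomial.C 0 * Polynomial.X +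
          Polynomial.C (-(4 * c))) (by simp) (Polynomial.degree_quadratic h3) hodd
      simp at hxy
      refine ⟨(x - (d - a) * y) / (2 * c), y, ?_⟩
      field_simp
      linear_combination hxy + 4 * y ^ 2 * hdet - (a + d - 1) * y ^ 2 * htr
  refine ⟨⟨!![v0, a * v0 + b * v1; v1, c * v0 + d * v1], ?_⟩, ?_⟩
  · rw [Matrix.det_fin_two_of]
    linear_combination hv
  refine mul_inv_eq_iff_eq_mul.2 (Subtype.ext ?_)
  show !![v0, a * v0 + b * v1; v1, c * v0 + d * v1] * (compThree (F := F)).1 =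
    A.1 * !![v0, a * v0 + b * v1; v1, c * v0 + d * v1]
  ext i j
  fin_cases i <;> fin_cases j <;>
    simp [compThree, Matrix.mul_apply, Fin.sum_univ_two, ha, hb, hc, hd]
  · linear_combination v0 * hdet - (a * v0 + b * v1) * htr
  · linear_combination v1 * hdet - (c * v0 + d * v1) * htr

/-- The elements of order three of `PSL₂` are conjugate outside characteristic three. -/
theorem exists_conj_three (h2 : (2 : F) ≠ 0) (h3 : (3 : F) ≠ 0)
    {x y : Matrix.ProjectiveSpecialLinearGroup (Fin 2) F} (hx : orderOf x = 3) (hy : orderOf y = 3) :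
    ∃ g, g * x * g⁻¹ = y := by
  have key : ∀ z : Matrix.ProjectiveSpecialLinearGroup (Fin 2) F, orderOf z = 3 →
      ∃ g, g * QuotientGroup.mk' _ (compThree (F := F)) * g⁻¹ = z := by
    intro z hz
    obtain ⟨A, rfl⟩ := QuotientGroup.mk'_surjective _ z
    have hcen : A ^ 3 ∈ Subgroup.center _ := (QuotientGroup.eq_one_iff _).1 (by
      rw [← QuotientGroup.mk'_apply, map_pow, ← hz, pow_orderOf_eq_one])
    obtain ⟨r, hr, hr'⟩ := Matrix.SpecialLinearGroup.mem_center_iff.1 hcen
    rw [Fintype.card_fin] at hr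
    -- a preimage of order three
    set B := A * (A ^ 3) with hB
    have h62 : (A ^ 3) * (A ^ 3) = 1 := Subtype.ext (by
      rw [Matrix.SpecialLinearGroup.coe_mul, ← hr', ← map_mul, ← pow_two, hr, map_one,
        Matrix.SpecialLinearGroup.coe_one])
    have hB3 : B ^ 3 = 1 := by
      rw [hB, ← pow_succ', ← pow_mul, show (3 + 1) * 3 = 3 * 2 + 3 * 2 by rfl, pow_add, pow_mul,
        pow_two, h62, mul_one]
    have hBA : QuotientGroup.mk' (Subgroup.center (Matrix.SpecialLinearGroup (Fin 2) F)) B =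
        QuotientGroup.mk' _ A := by
      rw [hB, map_mul, show QuotientGroup.mk' (Subgroup.center (Matrix.SpecialLinearGroup (Fin 2) F))
        (A ^ 3) = 1 from (QuotientGroup.eq_one_iff _).2 hcen, mul_one]
    obtain ⟨P, hP⟩ := exists_companion h2 h3 hB3 (fun h => by
      rw [h, map_one] at hBA
      rw [← hBA, orderOf_one] at hz
      omega)
    exact ⟨QuotientGroup.mk' _ P, by rw [← map_inv, ← map_mul, ← map_mul, hP, hBA]⟩
  obtain ⟨g, hg⟩ := key x hx
  obtain ⟨h, hh⟩ := key y hy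
  exact ⟨h * g⁻¹, by rw [← hh, ← hg]; group⟩

end

/-- A CN-group over a group of odd type is that group, or has it of index two for the field of nine
elements. -/
theorem almost_oddType (hCN : Cfsg.IsCNGroup Y) {E : Subgroup Y} [hE : E.Normal] (h : IsOddType E) :
    E = ⊤ ∨ (E.index = 2 ∧ ∃ (F : Type) (_ : Field F) (_ : Fintype F), Fintype.card F = 9 ∧
      Nonempty (E ≃* Matrix.ProjectiveSpecialLinearGroup (Fin 2) F)) := by
  classical
  obtain ⟨⟨F, iF, jF, hF, ⟨e⟩⟩, M₁, -, -, ⟨e₁⟩, -, -⟩ := h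
  have h24 : 24 ∣ Nat.card E := by
    have := Subgroup.card_subgroup_dvd_card M₁
    rwa [Nat.card_congr e₁.toEquiv, Nat.card_perm, Nat.card_fin] at this
  by_cases hE1 : E = ⊤
  · exact Or.inl hE1
  rcases hF with h9 | ⟨hp, -⟩
  · -- the field of nine elements
    refine Or.inr ⟨?_, F, iF, jF, h9, ⟨e⟩⟩
    obtain ⟨i, hi⟩ := TwoR.Cons.exists_sq_neg_one h9
    have h360 : Nat.card E = 360 := by rw [Nat.card_congr e.toEquiv, TwoR.Cons.card_psl_nine h9]
    haveI : Fact (Nat.Prime 5) := ⟨by norm_num⟩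
    obtain ⟨x, hx⟩ := exists_prime_orderOf_dvd_card' (G := E) 5 (by rw [h360]; norm_num)
    obtain ⟨s₀, hs₀⟩ := TwoR.Cons.exists_conj_inv hi (e x)
    set s := e.symm s₀ with hsdef
    have hs : s * x * s⁻¹ = x⁻¹ := e.injective (by
      rw [map_mul, map_mul, map_inv, map_inv, hsdef, e.apply_symm_apply, hs₀])
    have hcard : Nat.card (Subgroup.zpowers x) = 5 ^ 1 := by rw [Nat.card_zpowers, hx, pow_one]
    have hidx : ¬ 5 ∣ (Subgroup.zpowers x).index := fun hd => by
      have := Subgroup.card_mul_index (Subgroup.zpowers x)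
      rw [hcard, h360] at this
      omega
    let P : Sylow 5 E := (IsPGroup.of_card hcard).toSylow hidx
    have hxo : orderOf (x : Y) = 5 := by rw [Subgroup.orderOf_coe, hx]
    -- a square exponent gives an element of `E`
    have hsq : ∀ (y : Y) (u : ℕ), y * x * y⁻¹ = (x : Y) ^ u → u % 5 = 1 ∨ u % 5 = 4 → y ∈ E := by
      intro y u hy hu
      rcases hu with hu | hu
      · refine mem_of_commute_real hCN (by norm_num) (by norm_num) hx hs (c := y) ?_
        rw [← pow_mod_orderOf, hxo, hu, pow_one] at hy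
        exact mul_inv_eq_iff_eq_mul.1 hy
      · have h1 : Commute ((s : Y) * y) (x : Y) := by
          refine mul_inv_eq_iff_eq_mul.1 ?_
          rw [show (s : Y) * y * x * ((s : Y) * y)⁻¹ = s * (y * x * y⁻¹) * (s : Y)⁻¹ by group, hy,
            ← pow_mod_orderOf, hxo, hu, ← conj_pow]
          have h2 := congrArg (Subtype.val : E → Y) hs
          simp only [Subgroup.coe_mul, Subgroup.coe_inv] at h2
          rw [h2, inv_pow]
          refine inv_eq_of_mul_eq_one_left ?_
          rw [← pow_succ', show 4 + 1 = orderOf (x : Y) by rw [hxo], pow_orderOf_eq_one]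
        exact (Subgroup.mul_mem_cancel_left E s.2).1
          (mem_of_commute_real hCN (by norm_num) (by norm_num) hx hs h1)
    -- every coset meets the normaliser
    have hN : ∀ g : Y, ∃ a ∈ E, ∃ u : ℕ, (a * g) * x * (a * g)⁻¹ = (x : Y) ^ u := by
      intro g
      have hg : g ∈ Subgroup.normalizer (((P : Subgroup E).map E.subtype : Subgroup Y) : Set Y) ⊔ E := by
        rw [Sylow.normalizer_sup_eq_top P]; exact Subgroup.mem_top g
      obtain ⟨n, hn, a, ha, rfl⟩ := Subgroup.mem_sup_of_normal_right.1 hg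
      rw [IsPGroup.toSylow_coe, MonoidHom.map_zpowers] at hn
      obtain ⟨u, hu⟩ := mem_powers_iff_mem_zpowers.2
        ((Subgroup.mem_normalizer_iff.1 hn (x : Y)).1 (Subgroup.mem_zpowers _))
      exact ⟨n * a⁻¹ * n⁻¹, hE.conj_mem _ (inv_mem ha) n, u, by
        rw [show n * a⁻¹ * n⁻¹ * (n * a) = n by group]; exact hu.symm⟩
    have hout : ∀ g : Y, g ∉ E → ∃ a ∈ E, ∃ u : ℕ, (a * g) * x * (a * g)⁻¹ = (x : Y) ^ u ∧
        (u % 5 = 2 ∨ u % 5 = 3) := by
      intro g hg
      obtain ⟨a, ha, u, hu⟩ := hN g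
      refine ⟨a, ha, u, hu, ?_⟩
      have hne : u % 5 ≠ 0 := fun h0 => by
        rw [← pow_mod_orderOf, hxo, h0, pow_zero, conj_eq_one_iff] at hu
        rw [hu, orderOf_one] at hxo
        omega
      have := hsq _ u hu
      have hno : ¬ (u % 5 = 1 ∨ u % 5 = 4) := fun h => hg ((Subgroup.mul_mem_cancel_left E ha).1 (this h))
      omega
    have hmul : ∀ g h : Y, g ∉ E → h ∉ E → g * h ∈ E := by
      intro g h hg hh
      obtain ⟨a, ha, u, hu, hu'⟩ := hout g hg
      obtain ⟨b, hb, v, hv, hv'⟩ := hout h hh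
      have h1 : a * g * (b * h) * x * (a * g * (b * h))⁻¹ = (x : Y) ^ (u * v) := by
        rw [show a * g * (b * h) * x * (a * g * (b * h))⁻¹ = a * g * (b * h * x * (b * h)⁻¹) * (a * g)⁻¹ by
          group, hv, ← conj_pow, hu, ← pow_mul]
      have h2 := hsq _ (u * v) h1 (by
        rcases hu' with e1 | e1 <;> rcases hv' with e2 | e2 <;> simp [Nat.mul_mod, e1, e2])
      rw [show a * g * (b * h) = (a * (g * b * g⁻¹)) * (g * h) by group] at h2
      exact (Subgroup.mul_mem_cancel_left E (mul_mem ha (hE.conj_mem b hb g))).1 h2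
    obtain ⟨g, -, hg⟩ := SetLike.exists_of_lt (lt_top_iff_ne_top.2 hE1)
    refine Subgroup.index_eq_two_iff.2 ⟨g, fun h => ?_⟩
    by_cases hh : h ∈ E
    · exact Or.inr ⟨hh, fun hhg => hg ((Subgroup.mul_mem_cancel_left E hh).1 hhg)⟩
    · exact Or.inl ⟨hmul h g hh hg, hh⟩
  · -- prime fields
    exfalso
    have hcard := Nat.card_congr e.toEquiv
    rw [hcard, Classical.card_PSL_two, Nat.card_eq_fintype_card] at h24
    have hne2 : Fintype.card F ≠ 2 := fun h => by rw [h] at h24; norm_num at h24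
    have hne3 : Fintype.card F ≠ 3 := fun h => by rw [h] at h24; norm_num at h24
    haveI := TwoR.Cons.charP_of_card' (F := F) hp one_ne_zero (pow_one _).symm
    have h2 : (2 : F) ≠ 0 := fun h0 => hne2 (by
      have : Fintype.card F ∣ 2 := (CharP.cast_eq_zero_iff F (Fintype.card F) 2).1 (by simpa using h0)
      exact (Nat.prime_dvd_prime_iff_eq hp Nat.prime_two).1 this)
    have h3 : (3 : F) ≠ 0 := fun h0 => hne3 (by
      have : Fintype.card F ∣ 3 := (CharP.cast_eq_zero_iff F (Fintype.card F) 3).1 (by simpa using h0)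
      exact (Nat.prime_dvd_prime_iff_eq hp Nat.prime_three).1 this)
    have h24' : 24 ∣ Nat.card E := by
      rw [hcard, Classical.card_PSL_two, Nat.card_eq_fintype_card]; exact h24
    haveI : Fact (Nat.Prime 3) := ⟨Nat.prime_three⟩
    obtain ⟨x, hx⟩ := exists_prime_orderOf_dvd_card' (G := E) 3 ((by norm_num : 3 ∣ 24).trans h24')
    have hcj : ∀ y : E, orderOf y = 3 → ∃ a : E, a * x * a⁻¹ = y := fun y hy => by
      obtain ⟨g, hg⟩ := exists_conj_three h2 h3 (x := e x) (y := e y) (by rw [e.orderOf_eq, hx])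
        (by rw [e.orderOf_eq, hy])
      exact ⟨e.symm g, e.injective (by rw [map_mul, map_mul, map_inv, e.apply_symm_apply, hg])⟩
    obtain ⟨s, hs⟩ := hcj x⁻¹ (by rw [orderOf_inv, hx])
    apply hE1
    refine eq_top_iff.2 fun g _ => ?_
    obtain ⟨a, ha⟩ := hcj (MulAut.conjNormal g x) (by rw [MulEquiv.orderOf_eq, hx])
    have ha' := congrArg (Subtype.val : E → Y) ha
    simp only [Subgroup.coe_mul, Subgroup.coe_inv, MulAut.conjNormal_apply] at ha'
    have hc : Commute ((a : Y)⁻¹ * g) (x : Y) := mul_inv_eq_iff_eq_mul.1 (by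
      rw [show (a : Y)⁻¹ * g * x * ((a : Y)⁻¹ * g)⁻¹ = (a : Y)⁻¹ * (g * x * g⁻¹) * a by group, ← ha']
      group)
    exact (Subgroup.mul_mem_cancel_left E (inv_mem a.2)).1
      (mem_of_commute_real hCN Nat.prime_three (by norm_num) hx hs hc)

/-- A group over `PSL₃(4)` with 2-groups as involution centralisers is that group. -/
theorem eq_top_of_isL34_cit (hY : CIT Y) {E : Subgroup Y} [hE : E.Normal] (h : IsL34 E) :
    E = ⊤ := by
  classical
  obtain ⟨F, _, _, hF, ⟨e⟩⟩ := h
  haveI : Fact (Nat.Prime 2) := ⟨Nat.prime_two⟩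
  haveI := TwoR.Cons.charP_of_card' (F := F) (p := 2) (n := 2) Nat.prime_two two_ne_zero
    (by rw [hF]; norm_num)
  set t : E := e.symm (QuotientGroup.mk' _ (TwoR.Cons.elat F)) with ht
  have ht1 : (t : Y) ≠ 1 := fun h1 => TwoR.Cons.mk_elat_ne_one (F := F) (by
    rw [← e.apply_symm_apply (QuotientGroup.mk' _ (TwoR.Cons.elat F)), ← ht,
      show t = 1 from Subtype.ext h1, map_one])
  have htt : (t : Y) * t = 1 := by
    rw [← Subgroup.coe_mul, ht, ← map_mul, TwoR.Cons.mk_elat_sq, map_one, Subgroup.coe_one]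
  have hsup : ∀ g : Y, ∃ c ∈ E, c * g ∈ Subgroup.centralizer ({(t : Y)} : Set Y) := by
    intro g
    set x : E := MulAut.conjNormal g t with hx
    obtain ⟨k, hk⟩ := TwoR.Cons.exists_conj_elat (F := F) (x := e x)
      (by rw [← map_mul, hx, ← map_mul, show t * t = 1 from Subtype.ext htt, map_one, map_one])
      (fun h1 => ht1 (congrArg Subtype.val ((MulAut.conjNormal g).injective
        ((e.injective (h1.trans e.map_one.symm)).trans (map_one _).symm))))
    have hk' : e.symm k * t * (e.symm k)⁻¹ = x := by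
      rw [ht, ← map_inv, ← map_mul, ← map_mul, hk, e.symm_apply_apply]
    refine ⟨((e.symm k)⁻¹ : E), SetLike.coe_mem _, Subgroup.mem_centralizer_singleton_iff.2 ?_⟩
    rw [← mul_inv_eq_iff_eq_mul]
    have h2 := congrArg (Subtype.val : E → Y) hk'
    simp only [hx, Subgroup.coe_mul, Subgroup.coe_inv, MulAut.conjNormal_apply] at h2
    rw [Subgroup.coe_inv]
    calc ((e.symm k : E) : Y)⁻¹ * g * t * (((e.symm k : E) : Y)⁻¹ * g)⁻¹
        = ((e.symm k : E) : Y)⁻¹ * (g * t * g⁻¹) * (e.symm k : E) := by group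
      _ = t := by rw [← h2]; group
  have hTO := TwoR.Cons.TwoOver.of_supplement (hY _ (EPPOTwo.orderOf_eq_two htt ht1)) hsup
  obtain ⟨x₀, a₀, hx₀, ha₀, hax₀, hne₀⟩ := TwoR.Cons.exists_frob_four (F := F) hF
  set x : E := e.symm x₀ with hxdef
  set a : E := e.symm a₀ with hadef
  have hxo : orderOf (x : Y) = 7 := by rw [Subgroup.orderOf_coe, hxdef, e.symm.orderOf_eq, hx₀]
  have hao : Odd (orderOf (a : Y)) := by rwa [Subgroup.orderOf_coe, hadef, e.symm.orderOf_eq]
  have hax : (a : Y) * x * (a : Y)⁻¹ = (x : Y) ^ 2 := by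
    have := congrArg (fun z => ((e.symm z : E) : Y)) hax₀
    simpa [hxdef, hadef] using this
  have hane : ¬ Commute (a : Y) (x : Y) := fun hc => hne₀ (by
    rw [← hax₀]
    have h1 : a * x = x * a := Subtype.ext hc.eq
    have h2 := congrArg e h1
    simp only [map_mul, hxdef, hadef, e.apply_symm_apply] at h2
    rw [h2, mul_inv_cancel_right])
  haveI : Fact (Nat.Prime 7) := ⟨by norm_num⟩
  have hcard : Nat.card (Subgroup.zpowers x) = 7 ^ 1 := by
    rw [Nat.card_zpowers, ← Subgroup.orderOf_coe, hxo, pow_one]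
  have hidx : ¬ 7 ∣ (Subgroup.zpowers x).index := fun hd => by
    have := Subgroup.card_mul_index (Subgroup.zpowers x)
    rw [hcard, Nat.card_congr e.toEquiv, TwoR.Cons.card_psl_three_four hF] at this
    omega
  let P : Sylow 7 E := (IsPGroup.of_card hcard).toSylow hidx
  by_contra hne
  obtain ⟨g₀, hg₀N, hg₀E⟩ : ∃ g ∈ Subgroup.normalizer
      (((P : Subgroup E).map E.subtype : Subgroup Y) : Set Y), g ∉ E := by
    by_contra hc
    push Not at hc
    exact hne (top_le_iff.1 ((Sylow.normalizer_sup_eq_top P).ge.trans (sup_le hc le_rfl)))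
  obtain ⟨m, hm, k, hk⟩ := exists_two_part (g := g₀)
  set g := g₀ ^ m with hg
  have hgN : g ∈ Subgroup.normalizer (((Subgroup.zpowers (x : Y)) : Subgroup Y) : Set Y) := by
    rw [IsPGroup.toSylow_coe, MonoidHom.map_zpowers] at hg₀N
    exact pow_mem hg₀N m
  have hgE : g ∉ E := fun hm' => hg₀E (by
    obtain ⟨n, hn⟩ := hTO g₀
    obtain ⟨q, hq⟩ := hm
    -- `m` and a power of two are coprime
    have hcop : m.Coprime (2 ^ n) := (Nat.coprime_two_right.2 ⟨q, hq⟩).pow_right n
    have := Nat.gcd_eq_gcd_ab m (2 ^ n)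
    rw [hcop.gcd_eq_one] at this
    rw [← zpow_one g₀, ← Nat.cast_one, this, zpow_add, zpow_mul, zpow_mul, zpow_natCast, zpow_natCast]
    exact mul_mem (E.zpow_mem hm' _) (E.zpow_mem hn _))
  obtain ⟨u, hu⟩ := mem_powers_iff_mem_zpowers.2
    ((Subgroup.mem_normalizer_iff.1 hgN (x : Y)).1 (Subgroup.mem_zpowers _))
  have hu' : g * x * g⁻¹ = (x : Y) ^ u := hu.symm
  -- centraliser of `x` is odd and invariant
  have hxne : (x : Y) ≠ 1 := fun h1 => by rw [h1, orderOf_one] at hxo; omega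
  have hCodd : ∀ c : Y, Commute c (x : Y) → Odd (orderOf c) := fun c hc => by
    by_contra he
    have ht' := orderOf_pow_orderOf_div (x := c) (orderOf_pos c).ne'
      (Nat.even_iff.1 (Nat.not_odd_iff_even.1 he) |> Nat.dvd_of_mod_eq_zero)
    exact hxne (eq_one_of_odd_isTwo (by rw [hxo]; decide) (hY.two_element ht' (hc.pow_left _)))
  have hga : (a : Y)⁻¹ * (g * a * g⁻¹) * x * ((a : Y)⁻¹ * (g * a * g⁻¹))⁻¹ = x := by
    -- both act as powers
    have h1 : g * a * x = g * (a : Y) * x := rfl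
    have h2 : (g * a) * x * (g * a)⁻¹ = (x : Y) ^ (u * 2) := by
      rw [show g * a * x * (g * a)⁻¹ = g * ((a : Y) * x * (a : Y)⁻¹) * g⁻¹ by group, hax, ← conj_pow, hu',
        ← pow_mul]
    have h3 : ((a : Y) * g) * x * ((a : Y) * g)⁻¹ = (x : Y) ^ (2 * u) := by
      rw [show (a : Y) * g * x * ((a : Y) * g)⁻¹ = a * (g * x * g⁻¹) * (a : Y)⁻¹ by group, hu', ← conj_pow,
        hax, ← pow_mul]
    rw [mul_comm u 2, ← h3] at h2
    calc (a : Y)⁻¹ * (g * a * g⁻¹) * x * ((a : Y)⁻¹ * (g * a * g⁻¹))⁻¹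
        = (a : Y)⁻¹ * (g * a) * (g⁻¹ * x * g) * (g * a)⁻¹ * a := by group
      _ = (a : Y)⁻¹ * ((g * a) * (g⁻¹ * x * g) * (g * a)⁻¹) * a := by group
      _ = _ := by
        obtain ⟨w, hw⟩ := mem_powers_iff_mem_zpowers.2
          ((Subgroup.mem_normalizer_iff.1 (inv_mem hgN) (x : Y)).1 (Subgroup.mem_zpowers _))
        rw [show g⁻¹ * (x : Y) * g = (x : Y) ^ w by rw [show g⁻¹ * (x : Y) * g = g⁻¹ * x * g⁻¹⁻¹ by group]; exact hw.symm,
          ← conj_pow, h2, conj_pow, ← show g⁻¹ * (x : Y) * g = (x : Y) ^ w by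
            rw [show g⁻¹ * (x : Y) * g = g⁻¹ * x * g⁻¹⁻¹ by group]; exact hw.symm]
        group
  have hgc : ∀ c : Y, Commute c (x : Y) → Commute (g * c * g⁻¹) (x : Y) := fun c hc => by
    obtain ⟨w, hw⟩ := mem_powers_iff_mem_zpowers.2
      ((Subgroup.mem_normalizer_iff.1 (inv_mem hgN) (x : Y)).1 (Subgroup.mem_zpowers _))
    have h1 := conj_commute (e := g⁻¹) (x := (x : Y)) (i := w) (c := c) hw.symm (hc.pow_right w)
    rwa [inv_inv] at h1
  obtain ⟨a', ha'C, hga'⟩ := exists_fixed Nat.prime_two hk (fun y => Commute ((a : Y)⁻¹ * y) (x : Y))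
    (fun y hy => by
      rw [show (a : Y)⁻¹ * (g * y * g⁻¹) = (a : Y)⁻¹ * (g * a * g⁻¹) * (g * ((a : Y)⁻¹ * y) * g⁻¹) by group]
      exact Commute.mul_left (mul_inv_eq_iff_eq_mul.1 hga) (hgc _ hy))
    (fun hd => by
      rw [show Nat.card {y : Y // Commute ((a : Y)⁻¹ * y) (x : Y)} =
        Nat.card (Subgroup.centralizer ({(x : Y)} : Set Y)) from Nat.card_congr
          { toFun := fun y => ⟨(a : Y)⁻¹ * y, Subgroup.mem_centralizer_singleton_iff.2 y.2.eq⟩
            invFun := fun c => ⟨(a : Y) * c, by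
              rw [inv_mul_cancel_left]; exact Subgroup.mem_centralizer_singleton_iff.1 c.2⟩
            left_inv := fun y => Subtype.ext (mul_inv_cancel_left _ _)
            right_inv := fun c => Subtype.ext (inv_mul_cancel_left _ _) }] at hd
      obtain ⟨c, hc⟩ := exists_prime_orderOf_dvd_card' 2 hd
      have := hCodd c (Subgroup.mem_centralizer_singleton_iff.1 c.2)
      rw [Subgroup.orderOf_coe, hc] at this
      exact absurd this (by decide))
  -- `a'` is a 2-element inducing the automorphism of `a`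
  have hg1 : g ≠ 1 := fun h1 => hgE (h1 ▸ one_mem E)
  obtain ⟨j, rfl⟩ : ∃ j, k = j + 1 := ⟨k - 1, by
    rcases k with _ | k
    · rw [pow_zero, orderOf_eq_one_iff] at hk; exact absurd hk hg1
    · simp⟩
  have hi : orderOf (g ^ 2 ^ j) = 2 := by
    rw [orderOf_pow' g (pow_ne_zero _ two_ne_zero), hk, Nat.gcd_eq_right (pow_dvd_pow 2 (by omega)),
      pow_succ, Nat.mul_div_cancel_left _ (pow_pos two_pos j)]
  obtain ⟨l, hl⟩ := hY.two_element hi (hga'.pow_left _)
  have hax' : a' * x * a'⁻¹ = (x : Y) ^ 2 := by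
    rw [← hax]
    calc a' * x * a'⁻¹ = a * (((a : Y)⁻¹ * a') * x * ((a : Y)⁻¹ * a')⁻¹) * (a : Y)⁻¹ := by group
      _ = _ := by rw [mul_inv_eq_iff_eq_mul.2 ha'C.eq]
  have h1 := TwoR.Cons.conj_pow_iter hax' (2 ^ l)
  have h2 := TwoR.Cons.conj_pow_iter hax (2 ^ l)
  rw [hl, one_mul, inv_one, mul_one] at h1
  rw [← h1] at h2
  have h3 : Commute ((a : Y) ^ 2 ^ l) (x : Y) := mul_inv_eq_iff_eq_mul.1 h2
  obtain ⟨w, hw⟩ := exists_pow_eq_self_of_coprime (n := 2 ^ l) (x := (a : Y))
    ((Nat.coprime_two_left.2 hao).pow_left l)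
  exact hane (hw ▸ h3.pow_left w)

end CfsgLib.Recog.CIT.CNStructure
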