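import Cfsg.Agent.Lib.Recog.CIT.CNReduce
import Cfsg.Agent.Lib.Recog.CIT.CNStructure.OddType
import Cfsg.Agent.Lib.Recog.SzIso.Suzuki
import Cfsg.Agent.Lib.LocalEven.SL2Higman

/-!
The structure of a nonsolvable CN-group, up to the module of the Suzuki groups.
-/

set_option autoImplicit false
set_option linter.unusedSectionVars false
set_option linter.style.haveILetI false

namespace CfsgLib.Recog.CIT.CNStructure

universe u

variable {G : Type u} [Group G] [Finite G]

theorem center_sl_two_eq_bot {F : Type*} [Field F] [CharP F 2] :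
    Subgroup.center (Matrix.SpecialLinearGroup (Fin 2) F) = ⊥ := by
  rw [Subgroup.eq_bot_iff_forall]
  intro z hz
  obtain ⟨r, hr, hr'⟩ := Matrix.SpecialLinearGroup.mem_center_iff.1 hz
  rw [Fintype.card_fin] at hr
  have h2 : (r + 1) ^ 2 = 0 := by rw [CharTwo.add_sq, hr, one_pow, CharTwo.add_self_eq_zero]
  refine Subtype.ext ?_
  rw [← hr', CharTwo.add_eq_zero.1 ((pow_eq_zero_iff two_ne_zero).1 h2), map_one,
    Matrix.SpecialLinearGroup.coe_one]

/-- A 2-group over `SL₂(2ⁿ)` with fixed-point-free elements of odd order is elementary abelian. -/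
theorem elementary_of_sl_two {F : Type*} [Field F] [Fintype F] [CharP F 2] {n : ℕ} (hn : 2 ≤ n)
    (hF : Fintype.card F = 2 ^ n) {N : Subgroup G} [N.Normal] (hN : IsPGroup 2 N)
    (e : G ⧸ N ≃* Matrix.SpecialLinearGroup (Fin 2) F)
    (hfpf : ∀ g m : G, g ≠ 1 → Odd (orderOf g) → m ∈ N → g * m * g⁻¹ = m → m = 1) :
    IsMulCommutative N ∧ ∀ x ∈ N, x * x = 1 := by
  obtain ⟨t, ht0, ht1⟩ := LocalEven.SL2Higman.exists_ne_zero_one hn hF
  haveI : Fact (Nat.Prime 3) := ⟨Nat.prime_three⟩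
  have h3 : 3 ∣ Nat.card G := by
    refine dvd_trans ?_ (Subgroup.card_quotient_dvd_card N)
    rw [Nat.card_congr e.toEquiv, Classical.card_SL_two, Nat.card_eq_fintype_card, hF]
    -- one of `q - 1`, `q + 1` is divisible by three
    have h : 2 ^ n % 3 = 1 ∨ 2 ^ n % 3 = 2 := by
      have : ¬ 3 ∣ 2 ^ n := fun h => absurd (Nat.prime_three.dvd_of_dvd_pow h) (by norm_num)
      omega
    refine dvd_mul_of_dvd_right ((Nat.modEq_iff_dvd' (Nat.one_le_pow _ _ (Nat.two_pow_pos n))).1 ?_) _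
    rw [Nat.ModEq, Nat.pow_mod]
    rcases h with h | h <;> rw [h]
  obtain ⟨x, hx⟩ := exists_prime_orderOf_dvd_card' 3 h3
  have hfx : ∀ q ∈ N, x * q * x⁻¹ = q → q = 1 := fun q hq h => hfpf x q
    (fun h1 => by rw [h1, orderOf_one] at hx; omega) (by rw [hx]; decide) hq h
  haveI hc : IsMulCommutative ↥N :=
    LocalEven.SL2Higman.comm ht0 ht1 _ G N rfl hN e x hx hfx
  refine ⟨hc, fun m hm => ?_⟩
  letI : CommGroup ↥N := { (inferInstance : Group ↥N) with mul_comm := hc.is_comm.comm }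
  letI := LocalEven.SL2Bridge.moduleAction (LocalEven.SL2Higman.act e
    (Subgroup.le_centralizer_iff_isMulCommutative.2 hc))
  obtain ⟨-, h2⟩ := LocalEven.SL2Higman.split_of_fpf (A := N) hN le_rfl e
    (Subgroup.le_centralizer_iff_isMulCommutative.2 hc) hx hfx ht0 ht1
  have := congrArg (fun z : Additive ↥N => ((Additive.toMul z : ↥N) : G))
    (h2 (Additive.ofMul ⟨m, hm⟩))
  simpa [two_nsmul] using this

/-- The reduction of the structure of nonsolvable CN-groups to modules of Suzuki groups. -/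
theorem cn_reduce (hCN : Cfsg.IsCNGroup G) (hns : ¬ Group.IsSolvable G) :
    IsSimpleGroup G ∨
    (∃ (N : Subgroup G), N.Normal ∧ N.index = 2 ∧ ∃ (F : Type) (_ : Field F) (_ : Fintype F),
      Fintype.card F = 9 ∧ Nonempty (N ≃* Matrix.ProjectiveSpecialLinearGroup (Fin 2) F)) ∨
    ∃ (N : Subgroup G) (_ : N.Normal), N ≠ ⊥ ∧ IsPGroup 2 N ∧
      (∀ g m : G, g ≠ 1 → Odd (orderOf g) → m ∈ N → g * m * g⁻¹ = m → m = 1) ∧
      (((IsMulCommutative N ∧ ∀ x ∈ N, x * x = 1) ∧
          ∃ (F : Type) (_ : Field F) (_ : Fintype F), CharP F 2 ∧ 4 ≤ Fintype.card F ∧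
            Nonempty (G ⧸ N ≃* Matrix.ProjectiveSpecialLinearGroup (Fin 2) F)) ∨
        (Cfsg.IsSuzuki (G ⧸ N) ∧ Cfsg.Lie.IsoSuzuki (G ⧸ N))) := by
  haveI : Fact (Nat.Prime 2) := ⟨Nat.prime_two⟩
  have hcit := CNReduce.cit_of_nonsolvable hCN hns
  obtain ⟨hQ, -, -, E, hE, hEs, hEna, -⟩ := CNReduce.quotient_facts hCN hns
  haveI := hE
  haveI := hEs
  set O := Cfsg.pCore 2 G with hO
  have hOp : IsPGroup 2 O := Base.isPGroup_pCore 2 G
  have hOfpf : ∀ g m : G, g ≠ 1 → Odd (orderOf g) → m ∈ O → g * m * g⁻¹ = m → m = 1 :=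
    fun g m hg hgo hm h => CNReduce.fpf_pCore hCN hns hg hgo hm h
  let eBot : O = ⊥ → G ≃* G ⧸ O := fun h =>
    ((QuotientGroup.quotientMulEquivOfEq h).trans QuotientGroup.quotientBot).symm
  have hsimple : E = ⊤ → O = ⊥ → IsSimpleGroup G := fun h1 h2 => by
    let i : E ≃* G := ((MulEquiv.subgroupCongr h1).trans Subgroup.topEquiv).trans (eBot h2).symm
    haveI : Nontrivial G := i.symm.toEquiv.nontrivial
    exact IsSimpleGroup.isSimpleGroup_of_surjective i.toMonoidHom i.surjective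
  by_cases hne : O = ⊥
  · have hCN' : Cfsg.IsCNGroup (G ⧸ O) := CNGroups.isCNGroup_congr (eBot hne) hCN
    rcases known_of_cit hEna (hQ.subgroup E) with ⟨⟨S, D, q, hd⟩, -⟩ | hodd | h34
    · exact Or.inl (hsimple (eq_top_of_seData hQ E hd) hne)
    · rcases almost_oddType hCN' hodd with h | ⟨hidx, F, iF, jF, h9, ⟨e⟩⟩
      · exact Or.inl (hsimple h hne)
      · refine Or.inr (Or.inl ⟨E.comap (eBot hne).toMonoidHom, inferInstance, ?_, F, iF, jF, h9, ⟨?_⟩⟩)
        · rw [Subgroup.index_comap_of_surjective E (eBot hne).surjective]; exact hidx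
        · exact ((E.comap (eBot hne).toMonoidHom).equivMapOfInjective (eBot hne).toMonoidHom
            (eBot hne).injective).trans ((MulEquiv.subgroupCongr
              (Subgroup.map_comap_eq_self_of_surjective (eBot hne).surjective E)).trans e)
    · exact Or.inl (hsimple (eq_top_of_isL34_cit hQ h34) hne)
  · refine Or.inr (Or.inr ⟨O, inferInstance, hne, hOp, hOfpf, ?_⟩)
    have hno : ¬ IsOddType E ∧ ¬ IsL34 E := not_oddType_section hcit (QuotientGroup.mk' O)
      (QuotientGroup.mk'_surjective O) (by rw [QuotientGroup.ker_mk']; exact hOp)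
      (by rw [QuotientGroup.ker_mk']; exact hne) E
    rcases known_of_cit hEna (hQ.subgroup E) with ⟨⟨S, D, q, hd⟩, hkind⟩ | h | h
    · have htop := eq_top_of_seData hQ E hd
      let i : E ≃* G ⧸ O := (MulEquiv.subgroupCongr htop).trans Subgroup.topEquiv
      rcases hkind with ⟨F, iF, jF, ⟨n, hn, hcard⟩, ⟨e⟩⟩ | hsz
      · haveI : CharP F 2 := TwoR.Cons.charP_of_card' Nat.prime_two (by omega) hcard
        let π : Matrix.SpecialLinearGroup (Fin 2) F ≃* Matrix.ProjectiveSpecialLinearGroup (Fin 2) F :=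
          MulEquiv.ofBijective (QuotientGroup.mk' _)
            ⟨(MonoidHom.ker_eq_bot_iff _).1 (by rw [QuotientGroup.ker_mk', center_sl_two_eq_bot]),
              QuotientGroup.mk'_surjective _⟩
        refine Or.inl ⟨elementary_of_sl_two hn hcard hOp (i.symm.trans (e.trans π.symm)) hOfpf,
          F, iF, jF, inferInstance, ?_, ⟨i.symm.trans e⟩⟩
        rw [hcard]
        exact le_trans (by norm_num) (Nat.pow_le_pow_right two_pos hn)
      · obtain ⟨F, iF, jF, m, hm, hF, ⟨e⟩⟩ := SzIso.isoSuzuki_of_isSuzuki hd hsz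
        obtain ⟨-, m', hm', hcard⟩ := hsz
        refine Or.inr ⟨⟨?_, m', hm', by rw [← hcard, Nat.card_congr i.toEquiv]⟩,
          F, iF, jF, m, hm, hF, ⟨i.symm.trans e⟩⟩
        haveI : Nontrivial (G ⧸ O) := i.symm.toEquiv.nontrivial
        exact IsSimpleGroup.isSimpleGroup_of_surjective i.toMonoidHom i.surjective
    · exact absurd h hno.1
    · exact absurd h hno.2

end CfsgLib.Recog.CIT.CNStructure
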